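import Cfsg.Agent.H954.LD.Row
import Cfsg.Agent.H175.Eight.JTwo
import Cfsg.Agent.H653.Sieve.Col
import Cfsg.Agent.H221.DS.JTwoTen
import Cfsg.Agent.KFacts.J2.Basic
import Cfsg.Agent.J2Type.ThreeF
import Cfsg.Agent.S2066

/-!
# S4910, the row of the Hall-Janko group: the degrees 63 and 160 (helper610)

* `exists_63` : the action on the 100 points is invariant under the automorphisms (up to a permutation of the points), the
  permutation character is `1 + 36 + 63`;
* `unique_160` : the column of the prime 7 (`|C(x)| = 7`, seven characters with the values `± 1`): the degrees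
  `1, 36, 225` (value `1`) and `90, 160` (value `-1`) and a second character of degree `160` leave a character of degree
  `148`, which does not divide the order.
-/

set_option autoImplicit false

namespace Cfsg.Agent.H610.LD

open Cfsg Subgroup Equiv
open Cfsg.Agent.SporadicA.J2Hundred Cfsg.Agent.H221.DS.JTwoTen Cfsg.Agent.H954.LD Cfsg.Agent.Characters.Core
open Cfsg.Agent.H690.Spor.RankThree

universe u

/-- two sums of irreducible characters with the same values -/
theorem tw_eq {S : Type u} [Group S] [Finite S] (b : MulAut S) {χ ψ : IrrCharacter S}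
    (hne : charDegree (χ : S → ℂ) ≠ charDegree (ψ : S → ℂ))
    (h : ∀ s, (χ : S → ℂ) (b s) + (ψ : S → ℂ) (b s) = (χ : S → ℂ) s + (ψ : S → ℂ) s) : tw b χ = χ := by
  classical
  have := Fintype.ofFinite S
  by_contra hcon
  have h1 : ((tw b χ : IrrCharacter S) : S → ℂ) + ((tw b ψ : IrrCharacter S) : S → ℂ) = (χ : S → ℂ) + (ψ : S → ℂ) := by
    funext s
    exact h s
  have h2 : classInner (((tw b χ : IrrCharacter S) : S → ℂ) + ((tw b ψ : IrrCharacter S) : S → ℂ)) (χ : S → ℂ) = 0 := by
    rw [classInner_add_left, classInner_irr_ne (tw b χ).2 χ.2 (fun e => hcon (Subtype.ext e)),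
      classInner_irr_ne (tw b ψ).2 χ.2 (fun e => hne (by rw [← charDegree_tw b ψ, e])), add_zero]
  rw [h1, classInner_add_left, classInner_irr_self χ.2,
    classInner_irr_ne ψ.2 χ.2 (fun e => hne (by rw [e])), add_zero] at h2
  exact one_ne_zero h2

/-- **An invariant character of degree 63.** -/
theorem exists_63 {S : Type u} [Group S] [Finite S] (h : Spor.IsoJ2 S) :
    ∃ χ : IrrCharacter S, charDegree (χ : S → ℂ) = 63 ∧ Inv χ := by
  classical
  obtain ⟨e⟩ := h
  obtain ⟨f⟩ := Cfsg.Agent.J2.HundredGens.J2_iso Cfsg.Agent.S1619.result.2.2.2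
  let E : S ≃* G := e.trans f
  let : MulAction S (Fin 100) := MulAction.compHom (Fin 100) ((G.subtype).comp E.toMonoidHom)
  have hE : ∀ a : S, MulAction.toPermHom S (Fin 100) a = (E a : Perm (Fin 100)) := by
    intro a
    ext x
    rfl
  have hsm : ∀ (a : S) (x : Fin 100), a • x = (E a : Perm (Fin 100)) x := fun a x => rfl
  obtain ⟨R, hR⟩ := rank3 (A := S) (fun a => by
    rw [hE, ← ph_conj]
    exact pf_mem _) (fun g hg => ⟨E.symm ⟨g, hg⟩, by rw [hE, MulEquiv.apply_symm_apply]⟩)
  obtain ⟨χ₁, χ₂, a, b, D, h1, h2, h0, h3, h4, h5⟩ := hR.frame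
  have hd1 : charDegree (χ₁ : S → ℂ) = a := Cfsg.Agent.Blocks.Basic.charDegree_of_eq h1
  have hd2 : charDegree (χ₂ : S → ℂ) = b := Cfsg.Agent.Blocks.Basic.charDegree_of_eq h2
  have hne : a ≠ b := by omega
  have hfix : ∀ (β : MulAut S) (s : S), Nat.card (MulAction.fixedBy (Fin 100) (β s)) =
      Nat.card (MulAction.fixedBy (Fin 100) s) := by
    intro β s
    have key : (E (β s) : Perm (Fin 100)) = pf (MulAut.congr E β) * (E s : Perm (Fin 100)) *
        (pf (MulAut.congr E β))⁻¹ := by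
      rw [← pf_spec]
      simp [MulAut.congr]
    set π := pf (MulAut.congr E β) with hπ
    refine Nat.card_congr ⟨fun x => ⟨π⁻¹ x.1, ?_⟩, fun x => ⟨π x.1, ?_⟩, fun x => ?_, fun x => ?_⟩
    · have hx := x.2
      rw [MulAction.mem_fixedBy, hsm, key] at hx
      rw [MulAction.mem_fixedBy, hsm]
      have h6 := congrArg (π⁻¹ : Perm (Fin 100)) hx
      simpa [Perm.mul_apply] using h6
    · have hx := x.2
      rw [MulAction.mem_fixedBy, hsm] at hx
      rw [MulAction.mem_fixedBy, hsm, key]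
      have h6 : (π⁻¹ : Perm (Fin 100)) (π x.1) = x.1 := Equiv.symm_apply_apply π x.1
      simp only [Perm.mul_apply]
      rw [h6, hx]
    · exact Subtype.ext (by simp)
    · exact Subtype.ext (by simp)
  have hsum : ∀ (β : MulAut S) (s : S), (χ₁ : S → ℂ) (β s) + (χ₂ : S → ℂ) (β s) = (χ₁ : S → ℂ) s + (χ₂ : S → ℂ) s := by
    intro β s
    have h6 := h0 (β s)
    rw [hfix, h0 s] at h6
    linear_combination -h6
  rcases arith h3 h4 h5 with h6 | h6
  · refine ⟨χ₁, by rw [hd1, h6], fun β s => ?_⟩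
    have h7 := tw_eq β (by rw [hd1, hd2]; exact hne) (hsum β)
    rw [← tw_apply, h7]
  · refine ⟨χ₂, by rw [hd2, h6], fun β s => ?_⟩
    have h7 := tw_eq β (χ := χ₂) (ψ := χ₁) (by rw [hd1, hd2]; exact hne.symm)
      (fun s => by rw [add_comm, hsum β s, add_comm])
    rw [← tw_apply, h7]

/-- An element of order 7 with a centralizer of order 7. -/
theorem exists_seven {S : Type u} [Group S] [Finite S] (h : Spor.IsoJ2 S) :
    ∃ x : S, orderOf x = 7 ∧ Nat.card (centralizer ({x} : Set S)) = 7 * 1 := by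
  obtain ⟨e⟩ := h
  obtain ⟨t, u, Q, v, ρ, D⟩ := KFacts.J2.Basic.exists_dat
  have hfin : Finite Spor.J2 := Finite.of_equiv S e.toEquiv
  have hG : Nat.card Spor.J2 = 604800 := J2Type.Order.card_of_fus D.F
  have hfact : Fact (Nat.Prime 7) := ⟨by norm_num⟩
  obtain ⟨P⟩ : Nonempty (Sylow 7 Spor.J2) := inferInstance
  obtain ⟨h1, -, -⟩ := J2Type.SylowSeven.sylow_seven hG (J2Type.ThreeF.not_seven_dvd_two D.F)
    (J2Type.ThreeF.not_seven_dvd_three D.F) P
  have hP : Nat.card (P : Subgroup Spor.J2) = 7 := by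
    have := J2Type.SylowSeven.card_sylow P 1 86400 (by rw [hG]; norm_num) (by norm_num)
    simpa using this
  have hcyc : IsCyclic (P : Subgroup Spor.J2) := isCyclic_of_prime_card hP
  obtain ⟨y, hy⟩ := hcyc.exists_generator
  have hyo : orderOf (y : Spor.J2) = 7 := by
    rw [Subgroup.orderOf_coe]
    exact (orderOf_eq_card_of_forall_mem_zpowers hy).trans hP
  have hle : centralizer ({(y : Spor.J2)} : Set Spor.J2) ≤ centralizer ((P : Subgroup Spor.J2) : Set Spor.J2) := by
    intro c hc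
    rw [mem_centralizer_iff]
    intro z hz
    obtain ⟨k, hk⟩ := hy ⟨z, hz⟩
    have hk' : (y : Spor.J2) ^ k = z := congrArg Subtype.val hk
    have h3 : Commute (y : Spor.J2) c := mem_centralizer_iff.1 hc y rfl
    rw [← hk']
    exact (h3.zpow_left k).eq
  have hge : centralizer ((P : Subgroup Spor.J2) : Set Spor.J2) ≤ centralizer ({(y : Spor.J2)} : Set Spor.J2) :=
    centralizer_le (by
      intro z hz
      rw [Set.mem_singleton_iff] at hz
      rw [hz]
      exact y.2)
  have hce : centralizer ({(y : Spor.J2)} : Set Spor.J2) = (P : Subgroup Spor.J2) := (le_antisymm hle hge).trans h1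
  refine ⟨e.symm y, (MulEquiv.orderOf_eq e.symm (y : Spor.J2)).trans hyo, ?_⟩
  have hmap : Nat.card (centralizer ({e.symm (y : Spor.J2)} : Set S)) =
      Nat.card (centralizer ({(y : Spor.J2)} : Set Spor.J2)) := by
    refine Nat.card_congr ⟨fun c => ⟨e c.1, ?_⟩, fun c => ⟨e.symm c.1, ?_⟩, fun c => ?_, fun c => ?_⟩
    · rw [mem_centralizer_singleton_iff]
      have h3 := mem_centralizer_singleton_iff.1 c.2
      have h4 := congrArg e h3
      simpa using h4
    · rw [mem_centralizer_singleton_iff]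
      have h3 := mem_centralizer_singleton_iff.1 c.2
      have h4 := congrArg e.symm h3
      simpa using h4
    · exact Subtype.ext (by simp)
    · exact Subtype.ext (by simp)
  rw [hmap, hce, hP]

/-- **The character of degree 160 is unique.** -/
theorem unique_160 {S : Type u} [Group S] [Finite S] [IsSimpleGroup S] (hna : ¬ IsMulCommutative S) (h : Spor.IsoJ2 S)
    (χ ψ : IrrCharacter S) (hχ : charDegree (χ : S → ℂ) = 160) (hψ : charDegree (ψ : S → ℂ) = 160) : ψ = χ := by
  classical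
  have hcard : Nat.card S = 604800 := NotCT.Orders.j2 h
  obtain ⟨x, hx, hc⟩ := exists_seven h
  have := Fintype.ofFinite S
  have hfi : Finite (IrrCharacter S) := finite_irr
  have := Fintype.ofFinite (IrrCharacter S)
  have hfact : Fact (Nat.Prime 7) := ⟨by norm_num⟩
  obtain ⟨P, W, -, -, -, hW⟩ := H653.Sieve.exists_col hna hcard hx hc 6 1 [(0, 0), (1, 1), (6, -1)] 0 false
    (by decide +kernel)
  -- the degrees
  have hmem : ∀ d : ℕ, d ∈ charDegrees G → ∃ θ : IrrCharacter S, charDegree (θ : S → ℂ) = d := by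
    intro d hd
    obtain ⟨f⟩ := J2.HundredGens.J2_iso Cfsg.Agent.S1619.result.2.2.2
    obtain ⟨e⟩ := h
    rw [← H424.DegTools.charDegrees_congr (e.trans f)] at hd
    exact hd
  obtain ⟨a, ha⟩ : ∃ θ : IrrCharacter S, charDegree (θ : S → ℂ) = 36 := H118.FD.Rows.mem_36 h
  obtain ⟨b, hb⟩ := hmem 90 H175.Eight.JTwo.deg_90
  obtain ⟨c, hc⟩ := hmem 225 H175.Eight.JTwo.deg_225
  let o : IrrCharacter S := ⟨1, isIrr_one⟩
  have ho : charDegree (o : S → ℂ) = 1 := by
    apply Cfsg.Agent.Blocks.Basic.charDegree_of_eq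
    show (1 : ℂ) = ((1 : ℕ) : ℂ)
    simp
  have hval : ∀ θ : IrrCharacter S, (charDegree (θ : S → ℂ) % 7, W θ) ∈ [(0, 0), (1, 1), (6, (-1 : ℤ))] := hW.mem
  have hw : ∀ θ : IrrCharacter S, (charDegree (θ : S → ℂ) % 7 = 0 ∧ W θ = 0) ∨ (charDegree (θ : S → ℂ) % 7 = 1 ∧ W θ = 1) ∨
      (charDegree (θ : S → ℂ) % 7 = 6 ∧ W θ = -1) := by
    intro θ
    have := hval θ
    simp only [List.mem_cons, List.not_mem_nil, or_false, Prod.mk.injEq] at this
    exact this
  have hwo : W o = 1 := by have := hw o; rw [ho] at this; omega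
  have hwa : W a = 1 := by have := hw a; rw [ha] at this; omega
  have hwb : W b = -1 := by have := hw b; rw [hb] at this; omega
  have hwc : W c = 1 := by have := hw c; rw [hc] at this; omega
  have hwx : W χ = -1 := by have := hw χ; rw [hχ] at this; omega
  have hwy : W ψ = -1 := by have := hw ψ; rw [hψ] at this; omega
  by_contra hne
  have hsq : ∑ θ : IrrCharacter S, W θ * W θ = 7 := hW.sq
  have hdeg : ∑ θ : IrrCharacter S, W θ * (charDegree (θ : S → ℂ) : ℤ) = 0 := hW.deg
  have hdist : ∀ {θ η : IrrCharacter S} {m n : ℕ}, charDegree (θ : S → ℂ) = m → charDegree (η : S → ℂ) = n → m ≠ n →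
      θ ≠ η := by
    rintro θ η m n h1 h2 h3 rfl
    exact h3 (h1.symm.trans h2)
  let T : Finset (IrrCharacter S) := {o, a, b, c, χ, ψ}
  have hsplit : ∀ F : IrrCharacter S → ℤ, ∑ θ ∈ T, F θ = F o + F a + F b + F c + F χ + F ψ := by
    intro F
    have e1 : o ∉ ({a, b, c, χ, ψ} : Finset (IrrCharacter S)) := by
      simp only [Finset.mem_insert, Finset.mem_singleton, not_or]
      exact ⟨hdist ho ha (by norm_num), hdist ho hb (by norm_num), hdist ho hc (by norm_num),
        hdist ho hχ (by norm_num), hdist ho hψ (by norm_num)⟩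
    have e2 : a ∉ ({b, c, χ, ψ} : Finset (IrrCharacter S)) := by
      simp only [Finset.mem_insert, Finset.mem_singleton, not_or]
      exact ⟨hdist ha hb (by norm_num), hdist ha hc (by norm_num), hdist ha hχ (by norm_num),
        hdist ha hψ (by norm_num)⟩
    have e3 : b ∉ ({c, χ, ψ} : Finset (IrrCharacter S)) := by
      simp only [Finset.mem_insert, Finset.mem_singleton, not_or]
      exact ⟨hdist hb hc (by norm_num), hdist hb hχ (by norm_num), hdist hb hψ (by norm_num)⟩
    have e4 : c ∉ ({χ, ψ} : Finset (IrrCharacter S)) := by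
      simp only [Finset.mem_insert, Finset.mem_singleton, not_or]
      exact ⟨hdist hc hχ (by norm_num), hdist hc hψ (by norm_num)⟩
    have e5 : χ ∉ ({ψ} : Finset (IrrCharacter S)) := by
      simp only [Finset.mem_singleton]
      exact fun e => hne e.symm
    show ∑ θ ∈ ({o, a, b, c, χ, ψ} : Finset (IrrCharacter S)), F θ = _
    rw [Finset.sum_insert e1, Finset.sum_insert e2, Finset.sum_insert e3, Finset.sum_insert e4, Finset.sum_insert e5,
      Finset.sum_singleton]
    ring
  have hs1 : ∑ θ ∈ Tᶜ, W θ * W θ = 1 := by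
    have h1 := Finset.sum_add_sum_compl T (fun θ => W θ * W θ)
    rw [hsq, hsplit, hwo, hwa, hwb, hwc, hwx, hwy] at h1
    linarith
  have hs2 : ∑ θ ∈ Tᶜ, W θ * (charDegree (θ : S → ℂ) : ℤ) = 148 := by
    have h1 := Finset.sum_add_sum_compl T (fun θ => W θ * (charDegree (θ : S → ℂ) : ℤ))
    rw [hdeg, hsplit, hwo, hwa, hwb, hwc, hwx, hwy, ho, ha, hb, hc, hχ, hψ] at h1
    push_cast at h1
    linarith
  -- exactly one further character
  obtain ⟨η, hη, hη0⟩ : ∃ η ∈ Tᶜ, W η * W η ≠ 0 := by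
    by_contra hcon
    push Not at hcon
    rw [Finset.sum_eq_zero hcon] at hs1
    norm_num at hs1
  have hη1 : W η * W η = 1 := by
    rcases hw η with h1 | h1 | h1 <;> rw [h1.2] at hη0 ⊢ <;> simp at hη0 ⊢
  have hrest : ∀ θ ∈ Tᶜ, θ ≠ η → W θ = 0 := by
    intro θ hθ hθη
    have h1 : W η * W η + W θ * W θ ≤ 1 := by
      rw [← hs1, ← Finset.add_sum_erase _ _ hη]
      have h2 : θ ∈ (Tᶜ).erase η := Finset.mem_erase.2 ⟨hθη, hθ⟩
      have h3 := Finset.single_le_sum (f := fun θ => W θ * W θ) (fun i _ => mul_self_nonneg (W i)) h2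
      have h4 : W θ * W θ ≤ ∑ θ ∈ (Tᶜ).erase η, W θ * W θ := h3
      linarith
    rw [hη1] at h1
    have h2 : W θ * W θ = 0 := le_antisymm (by linarith) (mul_self_nonneg _)
    exact mul_self_eq_zero.1 h2
  rw [← Finset.add_sum_erase _ _ hη, Finset.sum_eq_zero (fun θ hθ => by
    rw [hrest θ (Finset.mem_of_mem_erase hθ) (Finset.ne_of_mem_erase hθ), zero_mul]), add_zero] at hs2
  have hdvd : charDegree (η : S → ℂ) ∣ 604800 := by
    rw [← hcard]
    exact Cfsg.Agent.Blocks.Knorr.charDegree_dvd η.2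
  have hpos : 0 < charDegree (η : S → ℂ) := Cfsg.Agent.Blocks.Basic.charDegree_pos η.2
  have h148 : charDegree (η : S → ℂ) = 148 := by
    rcases hw η with h1 | h1 | h1 <;> rw [h1.2] at hs2 <;> omega
  rw [h148] at hdvd
  omega

/-- **Row `J₂`.** -/
theorem row_J2 {S : Type u} [Group S] [Finite S] [IsSimpleGroup S] (hna : ¬ IsMulCommutative S) (h : Spor.IsoJ2 S) :
    Cfsg.Agent.H954.LD.CopRow S := by
  have h2 : Nat.card (Out S) ≤ 2 := by
    obtain ⟨e⟩ := h
    have h1 := H55.OutGen.card_out_congr (H := Spor.J2) e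
    rw [S2066.result] at h1
    exact h1.le
  obtain ⟨α, hα, hiα⟩ := exists_63 h
  obtain ⟨β, hβ⟩ : ∃ θ : IrrCharacter S, charDegree (θ : S → ℂ) = 160 := by
    have hd := H175.Eight.JTwo.deg_160
    obtain ⟨f⟩ := J2.HundredGens.J2_iso Cfsg.Agent.S1619.result.2.2.2
    obtain ⟨e⟩ := h
    rw [← H424.DegTools.charDegrees_congr (e.trans f)] at hd
    exact hd
  exact copRow_inv hna h2 (by rw [hα]; norm_num) (by rw [hβ]; norm_num) (by rw [hα, hβ]; decide) hiα
    (inv_of_unique fun ψ hψ => unique_160 hna h β ψ hβ (hψ.trans hβ))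

end Cfsg.Agent.H610.LD
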